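import Mathlib
import Cfsg.Prelude.Def_LocalEven
import Cfsg.Agent.Lib.ZJ.Core
import Cfsg.Agent.Lib.Offender.Basic
import Cfsg.Agent.Lib.PReduced.Largest

/-!
Finite groups whose `O^p` is abelian modulo a normal `p`-subgroup (`p` odd) are `p`-stable, and so
are all their sections.
-/

set_option autoImplicit false
set_option linter.style.haveILetI false
set_option linter.unusedSectionVars false

open scoped commutatorElement

namespace CfsgLib.PStable

open CfsgLib.Transfer

universe u

/-- `[O^p(G), O^p(G)]` is a `p`-group. -/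
def AbelianResidual (p : ℕ) (G : Type*) [Group G] : Prop :=
  IsPGroup p ↥⁅Cfsg.pResidual p G, Cfsg.pResidual p G⁆

variable {p : ℕ} [hp : Fact p.Prime]

theorem AbelianResidual.subgroup {G : Type*} [Group G] (h : AbelianResidual p G) (H : Subgroup G) :
    AbelianResidual p H := by
  have h1 : (⁅Cfsg.pResidual p H, Cfsg.pResidual p H⁆).map H.subtype ≤
      ⁅Cfsg.pResidual p G, Cfsg.pResidual p G⁆ := by
    rw [Subgroup.map_commutator]
    exact Subgroup.commutator_mono (map_pResidual_le _) (map_pResidual_le _)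
  intro x
  obtain ⟨k, hk⟩ := h ⟨_, h1 (Subgroup.mem_map_of_mem _ x.2)⟩
  exact ⟨k, Subtype.ext (Subtype.ext (by simpa using congrArg Subtype.val hk))⟩

theorem AbelianResidual.of_surjective {G H : Type*} [Group G] [Group H] [Finite G]
    (h : AbelianResidual p G) (f : G →* H) (hf : Function.Surjective f) : AbelianResidual p H := by
  unfold AbelianResidual
  rw [← map_pResidual f hf, ← Subgroup.map_commutator]
  exact h.map f

/-- A finite commutative subgroup generated by elements of order prime to `p`. -/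
theorem coprime_card_closure {G : Type*} [Group G] [Finite G] {s : Set G}
    (hs : ∀ x ∈ s, (orderOf x).Coprime p)
    (hc : ∀ x ∈ Subgroup.closure s, ∀ y ∈ Subgroup.closure s, x * y = y * x) :
    (Nat.card (Subgroup.closure s)).Coprime p := by
  have h : ∀ x ∈ Subgroup.closure s, (orderOf x).Coprime p := by
    intro x hx
    induction hx using Subgroup.closure_induction with
    | mem x hx => exact hs x hx
    | one => simp
    | mul a b ha hb iha ihb =>
      exact (Nat.Coprime.mul_left iha ihb).coprime_dvd_left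
        (Commute.orderOf_mul_dvd_mul_orderOf (hc a ha b hb))
    | inv a ha iha => rwa [orderOf_inv]
  refine (hp.out.coprime_iff_not_dvd.mpr fun hd => ?_).symm
  obtain ⟨x, hx⟩ := exists_prime_orderOf_dvd_card' p hd
  have := h x x.2
  rw [Subgroup.orderOf_coe, hx] at this
  exact hp.out.ne_one ((Nat.coprime_self p).mp this)

/-- On a minimal normal `p`-subgroup, `O_p` of the quotient by the centralizer is trivial. -/
theorem le_centralizer_of_minimal {G : Type*} [Group G] [Finite G] {V : Subgroup G} [V.Normal]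
    (hV : IsPGroup p V) (hmin : ∀ N : Subgroup G, N.Normal → N ≤ V → N = ⊥ ∨ N = V)
    (D : Subgroup G) [D.Normal]
    (hD : ∀ d ∈ D, ∃ k : ℕ, d ^ p ^ k ∈ Subgroup.centralizer (V : Set G)) :
    D ≤ Subgroup.centralizer (V : Set G) := by
  rcases eq_or_ne V ⊥ with hbot | hV1
  · rw [hbot]
    exact fun d _ y hy => by rw [Subgroup.mem_bot.mp hy, one_mul, mul_one]
  set C := Subgroup.centralizer (V : Set G) with hC
  obtain ⟨S⟩ := (inferInstance : Nonempty (Sylow p D))
  set SD := (S : Subgroup D).map D.subtype with hSD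
  have hq : (S : Subgroup D) ⊔ C.subgroupOf D = ⊤ := by
    refine sylow_sup_eq_top_of_isPGroup_quotient S _ fun x => ?_
    obtain ⟨d, rfl⟩ := QuotientGroup.mk'_surjective (C.subgroupOf D) x
    obtain ⟨k, hk⟩ := hD d d.2
    refine ⟨k, ?_⟩
    rw [← map_pow, QuotientGroup.mk'_apply, QuotientGroup.eq_one_iff, Subgroup.mem_subgroupOf]
    exact hk
  have hnil : Group.IsNilpotent ↥(V ⊔ SD) :=
    (hV.to_sup_of_normal_left (S.2.map _)).isNilpotent
  have hlt : ⁅V, SD⁆ < V := Coprime.commutator_lt_of_isNilpotent (X := V ⊔ SD) le_sup_left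
    le_sup_right Subgroup.le_normalizer_of_normal hV1
  have hle : ⁅V, D⁆ ≤ ⁅V, SD⁆ := by
    refine Subgroup.commutator_le.mpr fun v hv d hd => ?_
    have h1 : (⟨d, hd⟩ : D) ∈ (S : Subgroup D) ⊔ C.subgroupOf D := hq ▸ Subgroup.mem_top _
    obtain ⟨s, hs, c, hc, e⟩ := Subgroup.mem_sup_of_normal_right.mp h1
    have e' : d = (s : G) * (c : G) := (congrArg Subtype.val e).symm
    have hcv : v * ((c : G) * v⁻¹) = c := by
      rw [show (c : G) * v⁻¹ = v⁻¹ * c from
        ((Subgroup.mem_centralizer_iff.mp hc) v⁻¹ (V.inv_mem hv)).symm, mul_inv_cancel_left]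
    have hcv' : (c : G) * v⁻¹ = v⁻¹ * c :=
      ((Subgroup.mem_centralizer_iff.mp hc) v⁻¹ (V.inv_mem hv)).symm
    rw [e', commutatorElement_def, mul_inv_rev,
      show v * ((s : G) * c) * v⁻¹ * ((c : G)⁻¹ * (s : G)⁻¹) =
        v * s * ((c : G) * v⁻¹) * (c : G)⁻¹ * (s : G)⁻¹ by group, hcv',
      show v * s * (v⁻¹ * (c : G)) * (c : G)⁻¹ * (s : G)⁻¹ = v * s * v⁻¹ * (s : G)⁻¹ by group,
      ← commutatorElement_def]
    exact Subgroup.commutator_mem_commutator hv ⟨s, hs, rfl⟩
  rcases hmin ⁅V, D⁆ inferInstance (hle.trans hlt.le) with h | h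
  · rw [Subgroup.commutator_comm] at h
    exact Subgroup.commutator_eq_bot_iff_le_centralizer.mp h
  · exact absurd (h.symm.le.trans hle) (not_le_of_gt hlt)

/-- The irreducible step. -/
theorem commutator_mem_centralizer_of_minimal (hp2 : p ≠ 2) {G : Type*} [Group G] [Finite G]
    (hG : AbelianResidual p G) {V : Subgroup G} [V.Normal] (hV1 : V ≠ ⊥)
    (hmin : ∀ N : Subgroup G, N.Normal → N ≤ V → N = ⊥ ∨ N = V)
    (hVc : ∀ a ∈ V, ∀ b ∈ V, a * b = b * a) (hVp : ∀ v ∈ V, v ^ p = 1) {a : G}
    (hq : ⁅⁅V, Subgroup.zpowers a⁆, Subgroup.zpowers a⁆ = ⊥) {k : G}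
    (hk : (orderOf k).Coprime p) : ⁅a, k⁆ ∈ Subgroup.centralizer (V : Set G) := by
  set C := Subgroup.centralizer (V : Set G) with hC
  set Q := G ⧸ C with hQdef
  set π := QuotientGroup.mk' C with hπ
  have hπs : Function.Surjective π := QuotientGroup.mk'_surjective C
  haveI : IsMulCommutative V := ⟨⟨fun x y => Subtype.ext (hVc x x.2 y y.2)⟩⟩
  letI : CommGroup V := { (inferInstance : Group V) with mul_comm := mul_comm' }
  have hexp : ∀ v : Additive V, p • v = 0 := fun v =>
    Subtype.ext (hVp _ (Additive.toMul v : V).2)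
  haveI : Nontrivial (Additive V) := by
    haveI := (Subgroup.nontrivial_iff_ne_bot V).mpr hV1
    infer_instance
  let φ₀ : G →* AddMonoid.End (Additive V) :=
    { toFun := fun g => MonoidHom.toAdditive ((MulAut.conjNormal g : MulAut V).toMonoidHom)
      map_one' := by rw [map_one]; rfl
      map_mul' := fun g h => by rw [map_mul]; rfl }
  have hφ₀ : ∀ (g : G) (v : Additive V),
      ((Additive.toMul (φ₀ g v) : V) : G) = g * (Additive.toMul v : V) * g⁻¹ :=
    fun g v => MulAut.conjNormal_apply g _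
  have hker : C ≤ φ₀.ker := fun c hc => by
    refine DFunLike.ext _ _ fun v => Additive.toMul.injective (Subtype.ext ?_)
    rw [hφ₀, ← hc _ (Additive.toMul v : V).2, mul_inv_cancel_right]
    rfl
  let φ : Q →* AddMonoid.End (Additive V) := QuotientGroup.lift C φ₀ hker
  have hφπ : ∀ g, φ (π g) = φ₀ g := fun g => rfl
  have hφinj : Function.Injective φ := by
    rw [← MonoidHom.ker_eq_bot_iff, eq_bot_iff]
    intro x hx
    obtain ⟨g, rfl⟩ := hπs x
    rw [Subgroup.mem_bot, hπ, QuotientGroup.mk'_apply, QuotientGroup.eq_one_iff]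
    intro v hv
    have h1 := hφ₀ g (Additive.ofMul (⟨v, hv⟩ : V))
    rw [show φ₀ g = 1 from hx] at h1
    exact eq_mul_inv_iff_mul_eq.mp h1
  have hqu : (φ (π a) - 1) * (φ (π a) - 1) = 0 := by
    refine DFunLike.ext _ _ fun v => ?_
    set u : G := ((Additive.toMul v : V) : G) with hu
    have h1 : ⁅⁅u, a⁆, a⁆ = 1 := Subgroup.mem_bot.mp (hq ▸ Subgroup.commutator_mem_commutator
      (Subgroup.commutator_mem_commutator (Additive.toMul v : V).2 (Subgroup.mem_zpowers a))
      (Subgroup.mem_zpowers a))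
    set w := φ (π a) v - v with hw
    have hwv : ((Additive.toMul w : V) : G) = ⁅a, u⁆ := by
      rw [hw, toMul_sub, hφπ, Subgroup.coe_div, div_eq_mul_inv, hφ₀]
      rfl
    have hfix : φ (π a) w = w := by
      apply Additive.toMul.injective
      apply Subtype.ext
      rw [hφπ, hφ₀, hwv]
      have hcomm : Commute ⁅u, a⁆ a := commutatorElement_eq_one_iff_commute.mp h1
      rw [show ⁅a, u⁆ = ⁅u, a⁆⁻¹ from (commutatorElement_inv u a).symm, ← hcomm.inv_left.eq,
        mul_inv_cancel_right]
    show φ (π a) w - w = 0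
    rw [hfix, sub_self]
  haveI := pResidual_normal p Q
  set R := Cfsg.pResidual p Q with hR
  have hGQ : AbelianResidual p Q := hG.of_surjective π hπs
  have hRc : ∀ x ∈ R, ∀ y ∈ R, x * y = y * x := by
    set D := (⁅R, R⁆).comap π with hD
    haveI : D.Normal := Subgroup.Normal.comap inferInstance π
    have hDle : D ≤ C := le_centralizer_of_minimal (IsPGroup.to_le (fun v => ⟨1, Subtype.ext (by
      simpa using hVp v v.2)⟩) le_rfl) hmin D fun d hd => by
      obtain ⟨j, hj⟩ := hGQ ⟨π d, hd⟩
      refine ⟨j, (QuotientGroup.eq_one_iff _).mp ?_⟩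
      show π (d ^ p ^ j) = 1
      rw [map_pow]
      simpa using congrArg Subtype.val hj
    intro x hx y hy
    rw [← commutatorElement_eq_one_iff_mul_comm]
    obtain ⟨z, hz⟩ := hπs ⁅x, y⁆
    rw [← hz, hπ, QuotientGroup.mk'_apply, QuotientGroup.eq_one_iff]
    refine hDle ?_
    show π z ∈ ⁅R, R⁆
    rw [hz]
    exact Subgroup.commutator_mem_commutator hx hy
  have hRp : (Nat.card R).Coprime p := coprime_card_closure (fun x hx => hx) hRc
  have hcomm := Offender.commute_of_quadratic (p := p) hexp hp2 φ hφinj hqu hRc hRp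
    (by rw [Subgroup.normalizer_eq_top]; trivial)
  rw [← QuotientGroup.eq_one_iff, ← QuotientGroup.mk'_apply, ← hπ, map_commutatorElement,
    commutatorElement_eq_one_iff_mul_comm]
  exact hcomm _ (mem_pResidual_of_coprime (hk.coprime_dvd_left (orderOf_map_dvd π k)))

/-- The commutators of a quadratic element with `p'`-elements generate a `p`-group modulo `C(P)`. -/
theorem exists_pow_mem_centralizer_of_quadratic (hp2 : p ≠ 2) (n : ℕ) :
    ∀ (G : Type u) [Group G] [Finite G], AbelianResidual p G →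
      ∀ (P : Subgroup G) [P.Normal], IsPGroup p P → Nat.card P = n → ∀ a : G,
      ⁅⁅P, Subgroup.zpowers a⁆, Subgroup.zpowers a⁆ = ⊥ →
      ∀ y ∈ Subgroup.normalClosure {x : G | ∃ k : G, (orderOf k).Coprime p ∧ ⁅a, k⁆ = x},
        ∃ j : ℕ, y ^ p ^ j ∈ Subgroup.centralizer (P : Set G) := by
  induction n using Nat.strong_induction_on with
  | _ n IH =>
  intro G _ _ hG P _ hP hn a hq y hy
  rcases eq_or_ne P ⊥ with hbot | hP1
  · refine ⟨0, ?_⟩
    rw [hbot]
    exact fun z hz => by rw [Subgroup.mem_bot.mp hz, one_mul, mul_one]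
  -- a minimal normal subgroup inside the centre of `P`
  let W : Subgroup G :=
    { carrier := {x | x ∈ P ⊓ Subgroup.centralizer (P : Set G) ∧ x ^ p = 1}
      mul_mem' := fun {x y} hx hy => ⟨mul_mem hx.1 hy.1, by
        rw [(show Commute x y from hy.1.2 x hx.1.1).mul_pow, hx.2, hy.2, one_mul]⟩
      one_mem' := ⟨one_mem _, one_pow _⟩
      inv_mem' := fun {x} hx => ⟨inv_mem hx.1, by rw [inv_pow, hx.2, inv_one]⟩ }
  have hWn : W.Normal := ⟨fun x hx g =>
    ⟨Subgroup.Normal.conj_mem inferInstance x hx.1 g,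
      by rw [conj_pow, hx.2, mul_one, mul_inv_cancel]⟩⟩
  have hW1 : W ≠ ⊥ := by
    haveI : Nontrivial P := (Subgroup.nontrivial_iff_ne_bot P).mpr hP1
    haveI := hP.center_nontrivial
    obtain ⟨k, hk0, hk⟩ :=
      (hP.to_subgroup (Subgroup.center P)).nontrivial_iff_card.mp inferInstance
    obtain ⟨z, hz⟩ := exists_prime_orderOf_dvd_card' (G := Subgroup.center P) p
      (hk ▸ dvd_pow_self p hk0.ne')
    intro hW
    have hz1 : ((z : P) : G) ∈ W := by
      refine ⟨⟨(z : P).2, fun t ht => congrArg Subtype.val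
        (Subgroup.mem_center_iff.mp z.2 ⟨t, ht⟩)⟩, ?_⟩
      have h1 := pow_orderOf_eq_one z
      rw [hz] at h1
      simpa using congrArg (fun t : Subgroup.center P => ((t : P) : G)) h1
    rw [hW, Subgroup.mem_bot] at hz1
    refine hp.out.ne_one ?_
    rw [← hz, orderOf_eq_one_iff]
    exact Subtype.ext (Subtype.ext hz1)
  obtain ⟨V, hVW, ⟨hVn, hV1⟩, hVmin⟩ :=
    exists_minimal_le_of_wellFoundedLT (fun N : Subgroup G => N.Normal ∧ N ≠ ⊥) W ⟨hWn, hW1⟩
  haveI := hVn
  have hmin : ∀ N : Subgroup G, N.Normal → N ≤ V → N = ⊥ ∨ N = V := fun N hN hNV =>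
    or_iff_not_imp_left.mpr fun h => le_antisymm hNV (hVmin ⟨hN, h⟩ hNV)
  have hVP : V ≤ P := fun v hv => (hVW hv).1.1
  set C := Subgroup.centralizer (V : Set G) with hC
  have hMC : Subgroup.normalClosure {x : G | ∃ k : G, (orderOf k).Coprime p ∧ ⁅a, k⁆ = x} ≤ C := by
    refine Subgroup.normalClosure_le_normal ?_
    rintro _ ⟨k, hk, rfl⟩
    exact commutator_mem_centralizer_of_minimal hp2 hG hV1 hmin
      (fun x hx z hz => (hVW hz).1.2 x (hVP hx)) (fun v hv => (hVW hv).2)
      (le_bot_iff.mp (hq ▸ Subgroup.commutator_mono (Subgroup.commutator_mono hVP le_rfl) le_rfl)) hk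
  -- the quotient by `V`
  set π := QuotientGroup.mk' V with hπ
  have hπs : Function.Surjective π := QuotientGroup.mk'_surjective V
  haveI : (P.map π).Normal := Subgroup.Normal.map inferInstance π hπs
  have hlt : Nat.card (P.map π) < n := by
    have h1 := Subgroup.card_map_dvd P π
    refine lt_of_le_of_ne (hn ▸ Nat.le_of_dvd Nat.card_pos h1) fun h => hV1 ?_
    rw [eq_bot_iff]
    intro v hv
    have hinj : Function.Injective (π.subgroupMap P) :=
      ((π.subgroupMap_surjective P).bijective_of_nat_card_le (hn.trans h.symm).le).1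
    have := @hinj ⟨v, hVP hv⟩ 1 (Subtype.ext (by
      rw [map_one]; exact (QuotientGroup.eq_one_iff v).mpr hv))
    exact congrArg Subtype.val this
  obtain ⟨j, hj⟩ := IH _ hlt _ (hG.of_surjective π hπs) (P.map π) (hP.map π) rfl (π a)
    (by rw [← MonoidHom.map_zpowers π a, ← Subgroup.map_commutator, ← Subgroup.map_commutator, hq,
      Subgroup.map_bot]) (π y) (by
      refine Subgroup.normalClosure_mono ?_ (Subgroup.map_normalClosure _ π hπs ▸
        Subgroup.mem_map_of_mem π hy)
      rintro _ ⟨_, ⟨k, hk, rfl⟩, rfl⟩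
      exact ⟨π k, hk.coprime_dvd_left (orderOf_map_dvd π k), (map_commutatorElement π a k).symm⟩)
  refine ⟨j + 1, fun x hx => ?_⟩
  set z := y ^ p ^ j with hz
  have hzx : z * x * z⁻¹ * x⁻¹ ∈ V := by
    rw [← QuotientGroup.eq_one_iff, ← QuotientGroup.mk'_apply, ← hπ, map_mul, map_mul, map_mul,
      map_inv, map_inv, hz, map_pow, ← hj (π x) (Subgroup.mem_map_of_mem π hx),
      mul_inv_cancel_right, mul_inv_cancel]
  set v := z * x * z⁻¹ * x⁻¹ with hv
  have hzv : z * v = v * z := ((Subgroup.mem_centralizer_iff.mp (C.pow_mem (hMC hy) (p ^ j))) v hzx).symm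
  have hiter : ∀ i : ℕ, z ^ i * x * (z ^ i)⁻¹ = v ^ i * x := by
    intro i
    induction i with
    | zero => simp
    | succ i ih =>
      calc z ^ (i + 1) * x * (z ^ (i + 1))⁻¹ = z * (z ^ i * x * (z ^ i)⁻¹) * z⁻¹ := by
            rw [pow_succ' z i, mul_inv_rev]; group
        _ = (z * v ^ i) * x * z⁻¹ := by rw [ih]; group
        _ = v ^ i * (z * x * z⁻¹) := by rw [(Commute.pow_right hzv i).eq]; group
        _ = v ^ (i + 1) * x := by rw [pow_succ, hv]; group
  have h1 := hiter p
  rw [(hVW hzx).2, one_mul, mul_inv_eq_iff_eq_mul] at h1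
  rw [pow_succ, pow_mul]
  exact h1.symm

/-- **`p`-stability** of groups with `O^p` abelian modulo a `p`-group. -/
theorem mem_opMod_of_quadratic (hp2 : p ≠ 2) {G : Type u} [Group G] [Finite G]
    (hG : AbelianResidual p G) (P : Subgroup G) [P.Normal] (hP : IsPGroup p P) {a : G}
    (hq : ⁅⁅P, Subgroup.zpowers a⁆, Subgroup.zpowers a⁆ = ⊥) : a ∈ ZJ.opMod p P := by
  haveI := ZJ.opMod_normal (G := G) p P
  set L := ZJ.opMod p P with hL
  set M := Subgroup.normalClosure {x : G | ∃ k : G, (orderOf k).Coprime p ∧ ⁅a, k⁆ = x} with hM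
  have hML : M ≤ L := ZJ.le_opMod P M
    (exists_pow_mem_centralizer_of_quadratic hp2 _ G hG P hP rfl a hq)
  set π := QuotientGroup.mk' L with hπ
  have hπs : Function.Surjective π := QuotientGroup.mk'_surjective L
  haveI := pResidual_normal p (G ⧸ L)
  set R := Cfsg.pResidual p (G ⧸ L) with hR
  -- normal `p`-subgroups of `G / L` are trivial
  have hcore : ∀ N : Subgroup (G ⧸ L), N.Normal → IsPGroup p N → N = ⊥ := by
    intro N hN hNp
    haveI := hN
    have : N.comap π ≤ L := ZJ.le_opMod P (N.comap π) fun d hd => by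
      obtain ⟨i, hi⟩ := hNp ⟨π d, hd⟩
      have hdL : d ^ p ^ i ∈ L := by
        rw [← QuotientGroup.eq_one_iff, ← QuotientGroup.mk'_apply, ← hπ, map_pow]
        simpa using congrArg Subtype.val hi
      obtain ⟨j, hj⟩ := ZJ.exists_pow_mem_centralizer P hdL
      exact ⟨i + j, by rw [pow_add, pow_mul]; exact hj⟩
    rw [eq_bot_iff]
    intro x hx
    obtain ⟨g, rfl⟩ := hπs x
    exact Subgroup.mem_bot.mpr ((QuotientGroup.eq_one_iff g).mpr (this hx))
  have hRc : ∀ x ∈ R, ∀ y ∈ R, x * y = y * x := by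
    intro x hx y hy
    rw [← commutatorElement_eq_one_iff_mul_comm]
    have := Subgroup.commutator_mem_commutator hx hy
    rwa [hcore ⁅R, R⁆ inferInstance (hG.of_surjective π hπs), Subgroup.mem_bot] at this
  have hRp : (Nat.card R).Coprime p := coprime_card_closure (fun x hx => hx) hRc
  have hRa : R ≤ Subgroup.centralizer {π a} := by
    rw [hR, Cfsg.pResidual, Subgroup.closure_le]
    intro x hx
    obtain ⟨g, rfl⟩ := hπs x
    obtain ⟨i, m, -, -, hco, hpm⟩ := exists_pow_coprime_part (p := p) g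
    have hc : ⁅π a, π (g ^ p ^ i)⁆ = 1 := by
      rw [← map_commutatorElement, hπ, QuotientGroup.mk'_apply, QuotientGroup.eq_one_iff]
      exact hML (Subgroup.subset_normalClosure ⟨_, hco, rfl⟩)
    obtain ⟨j, hj⟩ := exists_pow_eq_self_of_coprime (n := p ^ i) (x := π g)
      (Nat.Coprime.pow_left i (Nat.Coprime.symm hx))
    have hcm : Commute (π a) (π g ^ p ^ i) := by
      rw [← map_pow]; exact commutatorElement_eq_one_iff_commute.mp hc
    have := hcm.pow_right j
    rw [hj] at this
    exact Subgroup.mem_centralizer_singleton_iff.mpr this.eq.symm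
  -- the centralizer of `R` has no `p`-elements
  set C := Subgroup.centralizer (R : Set (G ⧸ L)) with hC
  have haC : π a ∈ C := fun x hx => Subgroup.mem_centralizer_singleton_iff.mp (hRa hx)
  have hCnil : Group.IsNilpotent C := by
    have hle : R.subgroupOf C ≤ Subgroup.center C := fun x hx => Subgroup.mem_center_iff.mpr
      fun y => Subtype.ext ((y.2 _ hx).symm)
    haveI : (R.subgroupOf C).Normal := inferInstance
    haveI : Group.IsNilpotent (C ⧸ R.subgroupOf C) := by
      refine IsPGroup.isNilpotent (p := p) ?_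
      refine (isPGroup_quotient_pResidual (p := p) (G := G ⧸ L)).of_injective
        (QuotientGroup.map (R.subgroupOf C) R C.subtype (le_of_eq rfl)) ?_
      rw [← MonoidHom.ker_eq_bot_iff]
      exact (QuotientGroup.ker_map _ _ _ _).trans (QuotientGroup.map_mk'_self _)
    exact Subgroup.isNilpotent_of_ker_le_center (QuotientGroup.mk' (R.subgroupOf C))
      (by rw [QuotientGroup.ker_mk']; exact hle)
  obtain ⟨T⟩ := (inferInstance : Nonempty (Sylow p C))
  haveI hTn : (T : Subgroup C).Normal :=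
    T.normal_of_normalizerCondition Group.normalizerCondition_of_isNilpotent
  haveI := Sylow.characteristic_of_normal T hTn
  have hTbot : (T : Subgroup C) = ⊥ :=
    (Subgroup.map_eq_bot_iff_of_injective _ C.subtype_injective).mp
      (hcore _ (ConjAct.normal_of_characteristic_of_normal (K := (T : Subgroup C))) (T.2.map _))
  have hno : ¬ p ∣ Nat.card C := fun hd => T.ne_bot_of_dvd_card hd hTbot
  -- `π a` is a `p`-element modulo `L`
  obtain ⟨i, m, -, -, hco, -⟩ := exists_pow_coprime_part (p := p) a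
  have hai : a ^ p ^ i ∈ L := by
    refine ZJ.centralizer_le_opMod p P fun w hw => ?_
    have hcop : (Nat.card (Subgroup.zpowers (a ^ p ^ i))).Coprime (Nat.card P) := by
      obtain ⟨j, hj⟩ := hP.exists_card_eq
      rw [Nat.card_zpowers, hj]
      exact hco.pow_right j
    have hle : Subgroup.zpowers (a ^ p ^ i) ≤ Subgroup.zpowers a :=
      Subgroup.zpowers_le.mpr (pow_mem (Subgroup.mem_zpowers a) _)
    have h2 := Coprime.commutator_eq_bot_of_commutator_commutator Subgroup.le_normalizer_of_normal hcop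
      (le_bot_iff.mp (hq ▸ Subgroup.commutator_mono (Subgroup.commutator_mono le_rfl hle) hle))
    exact (Subgroup.commutator_eq_bot_iff_le_centralizer.mp h2 hw _ (Subgroup.mem_zpowers _)).symm
  rw [← QuotientGroup.eq_one_iff, ← QuotientGroup.mk'_apply, ← hπ]
  have h1 : orderOf (π a) ∣ p ^ i := orderOf_dvd_of_pow_eq_one (by
    rw [← map_pow]; exact (QuotientGroup.eq_one_iff _).mpr hai)
  have h2 : (orderOf (π a)).Coprime p :=
    (hp.out.coprime_iff_not_dvd.mpr fun hd => hno (hd.trans (C.orderOf_dvd_natCard haC))).symm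
  exact orderOf_eq_one_iff.mp (Nat.eq_one_of_dvd_coprimes (h2.pow_right i) dvd_rfl h1)

theorem isNormalizerPStable (hp2 : p ≠ 2) {G : Type u} [Group G] [Finite G]
    (hG : AbelianResidual p G) : Cfsg.IsNormalizerPStable p G := by
  intro P hP g hg hq
  set N := Subgroup.normalizer (P : Set G) with hN
  set P' := P.subgroupOf N with hP'
  haveI : P'.Normal := (Subgroup.normal_subgroupOf_iff_le_normalizer Subgroup.le_normalizer).mpr le_rfl
  have hq' : ⁅⁅P', Subgroup.zpowers (⟨g, hg⟩ : N)⁆, Subgroup.zpowers (⟨g, hg⟩ : N)⁆ = ⊥ := by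
    apply (Subgroup.map_eq_bot_iff_of_injective _ N.subtype_injective).mp
    rw [Subgroup.map_commutator, Subgroup.map_commutator, MonoidHom.map_zpowers, hP',
      Subgroup.map_subgroupOf_eq_of_le Subgroup.le_normalizer]
    exact hq
  have h1 := mem_opMod_of_quadratic hp2 (hG.subgroup N) P'
    (hP.comap_of_injective _ N.subtype_injective) hq'
  haveI := ZJ.opMod_normal (G := N) p P'
  set C := (Subgroup.centralizer (P : Set G)).subgroupOf N with hC
  have hCC : Subgroup.centralizer (P' : Set N) = C :=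
    PReduced.subgroupOf_centralizer Subgroup.le_normalizer
  refine Fitting.le_pCore (Subgroup.Normal.map inferInstance _ (QuotientGroup.mk'_surjective C)) ?_
    (Subgroup.mem_map_of_mem (QuotientGroup.mk' C) h1)
  rintro ⟨_, d, hd, rfl⟩
  obtain ⟨j, hj⟩ := ZJ.exists_pow_mem_centralizer P' hd
  rw [hCC] at hj
  exact ⟨j, Subtype.ext ((QuotientGroup.eq_one_iff _).mpr hj)⟩

end CfsgLib.PStable
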