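import Mathlib
import Cfsg.Prelude.Def_LocalEven
import Cfsg.Agent.Lib.Coprime.Action

/-!
Degrees of unipotence on chief factors: a commutator pairing `X × U → Z` bounds the degree on `X`
by the sum of the degrees on `U` and `Z`, minus one.
-/

set_option autoImplicit false
set_option linter.style.haveILetI false
set_option linter.unusedSectionVars false

open scoped commutatorElement

namespace CfsgLib.PStable

variable {G : Type*} [Group G]

/-- `[A, a, …, a]`. -/
abbrev itc (a : G) (A : Subgroup G) (n : ℕ) : Subgroup G :=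
  Cfsg.iterCommutator A (Subgroup.zpowers a) n

theorem iterCommutator_mono {A B K : Subgroup G} (h : A ≤ B) :
    ∀ n, Cfsg.iterCommutator A K n ≤ Cfsg.iterCommutator B K n
  | 0 => h
  | n + 1 => Subgroup.commutator_mono (iterCommutator_mono h n) le_rfl

theorem iterCommutator_le {A K : Subgroup G} [A.Normal] :
    ∀ n, Cfsg.iterCommutator A K n ≤ A
  | 0 => le_rfl
  | n + 1 => (Subgroup.commutator_mono (iterCommutator_le n) le_rfl).trans
      (Subgroup.commutator_le_left A K)

theorem iterCommutator_antitone {A K : Subgroup G} [A.Normal] {m n : ℕ} (h : m ≤ n) :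
    Cfsg.iterCommutator A K n ≤ Cfsg.iterCommutator A K m := by
  have h1 : ∀ d, Cfsg.iterCommutator A K (m + d) =
      Cfsg.iterCommutator (Cfsg.iterCommutator A K d) K m := by
    intro d
    induction m with
    | zero => rw [Nat.zero_add]; rfl
    | succ m ih =>
      rw [show m + 1 + d = (m + d) + 1 by omega]
      show ⁅Cfsg.iterCommutator A K (m + d), K⁆ = ⁅Cfsg.iterCommutator _ K m, K⁆
      rw [ih (by omega)]
  obtain ⟨d, rfl⟩ := Nat.le.dest h
  rw [h1]
  exact iterCommutator_mono (iterCommutator_le d) m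

theorem map_iterCommutator {H : Type*} [Group H] (f : G →* H) (A K : Subgroup G) :
    ∀ n, (Cfsg.iterCommutator A K n).map f = Cfsg.iterCommutator (A.map f) (K.map f) n
  | 0 => rfl
  | n + 1 => by
    show (⁅Cfsg.iterCommutator A K n, K⁆).map f = ⁅Cfsg.iterCommutator _ (K.map f) n, K.map f⁆
    rw [Subgroup.map_commutator, map_iterCommutator f A K n]

theorem iterCommutator_sup_le {A K : Subgroup G} (V : Subgroup G) [V.Normal] (n : ℕ) :
    Cfsg.iterCommutator (A ⊔ V) K n ≤ Cfsg.iterCommutator A K n ⊔ V := by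
  have h : (Cfsg.iterCommutator (A ⊔ V) K n).map (QuotientGroup.mk' V) =
      (Cfsg.iterCommutator A K n).map (QuotientGroup.mk' V) := by
    rw [map_iterCommutator, map_iterCommutator, Subgroup.map_sup, QuotientGroup.map_mk'_self,
      sup_bot_eq]
  have h2 := Subgroup.comap_map_eq (QuotientGroup.mk' V) (Cfsg.iterCommutator A K n)
  rw [← h, QuotientGroup.ker_mk'] at h2
  exact (Subgroup.le_comap_map _ _).trans h2.le

/-- Chief factors between `Y` and `X` have degree at most `n`. -/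
def DegBetween (a : G) (n : ℕ) (Y X : Subgroup G) : Prop :=
  ∀ U V : Subgroup G, Cfsg.IsChiefFactor U V → U ≤ X ⊔ V → ¬ U ≤ Y ⊔ V → itc a U n ≤ V

variable {a : G} {n : ℕ} {X Y W : Subgroup G}

theorem DegBetween.refl : DegBetween a n X X := fun _ _ _ h1 h2 => absurd h1 h2

theorem DegBetween.trans (h₁ : DegBetween a n Y W) (h₂ : DegBetween a n W X) :
    DegBetween a n Y X := fun U V hc hX hY => by
  by_cases hW : U ≤ W ⊔ V
  · exact h₁ U V hc hW hY
  · exact h₂ U V hc hX hW

theorem DegBetween.of_itc_le [Y.Normal] (h : itc a X n ≤ Y) : DegBetween a n Y X := by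
  intro U V hc hX hY
  obtain ⟨hlt, hUn, hVn, hmin⟩ := hc
  haveI := hUn
  haveI := hVn
  have h1 : itc a U n ≤ Y ⊔ V := ((iterCommutator_mono hX n).trans
    (iterCommutator_sup_le V n)).trans (sup_le_sup_right h V)
  have h2 : (U ⊓ (Y ⊔ V)) = V := by
    rcases hmin (U ⊓ (Y ⊔ V)) inferInstance (le_inf hlt.le le_sup_right) inf_le_left with e | e
    · exact e
    · exact absurd (inf_eq_left.mp e) hY
  exact (le_inf (iterCommutator_le n) h1).trans h2.le

theorem DegBetween.apply {U V : Subgroup G} (h : DegBetween a n ⊥ X)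
    (hc : Cfsg.IsChiefFactor U V) (hU : U ≤ X) : itc a U n ≤ V :=
  h U V hc (hU.trans le_sup_left) (by rw [bot_sup_eq]; exact hc.1.not_ge)

variable [Finite G]

theorem exists_chief_below {X : Subgroup G} (hX : X.Normal) (h : X ≠ ⊥) :
    ∃ X' : Subgroup G, Cfsg.IsChiefFactor X X' ∧ Nat.card X' < Nat.card X := by
  haveI : Finite (Subgroup G) := Finite.of_injective (fun H => (H : Set G)) SetLike.coe_injective
  obtain ⟨X', hX', hmax⟩ := (Set.toFinite {N : Subgroup G | N.Normal ∧ N < X}).exists_maximal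
    ⟨⊥, inferInstance, bot_lt_iff_ne_bot.mpr h⟩
  refine ⟨X', ⟨hX'.2, hX, hX'.1, fun N hN h1 h2 => ?_⟩, ?_⟩
  · rcases eq_or_lt_of_le h2 with e | hlt
    · exact Or.inr e
    · exact Or.inl (le_antisymm (hmax ⟨hN, hlt⟩ h1) h1)
  · exact lt_of_le_of_ne (Subgroup.card_le_of_le hX'.2.le)
      fun e => hX'.2.ne (Subgroup.eq_of_le_of_card_ge hX'.2.le e.ge)

variable {p : ℕ} [hp : Fact p.Prime]

theorem commutator_chief_le {P U V : Subgroup G} [P.Normal] (hP : IsPGroup p P) (hUP : U ≤ P)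
    (hc : Cfsg.IsChiefFactor U V) : ⁅P, U⁆ ≤ V := by
  obtain ⟨hlt, hUn, hVn, hmin⟩ := hc
  haveI := hUn
  haveI := hVn
  have hle : ⁅P, U⁆ ≤ U := Subgroup.commutator_le_right P U
  rcases hmin (⁅P, U⁆ ⊔ V) inferInstance le_sup_right (sup_le hle hlt.le) with e | e
  · exact le_sup_left.trans e.le
  exfalso
  set f := QuotientGroup.mk' V with hf
  haveI : Group.IsNilpotent (P.map f) := (hP.map f).isNilpotent
  set Pb := P.map f with hPb
  have hUb : U.map f = ⁅Pb, U.map f⁆ := by
    conv_lhs => rw [← e]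
    rw [Subgroup.map_sup, Subgroup.map_commutator, QuotientGroup.map_mk'_self, sup_bot_eq]
  set R := (U.map f).subgroupOf Pb with hR
  have hRmap : R.map Pb.subtype = U.map f :=
    Subgroup.map_subgroupOf_eq_of_le (Subgroup.map_mono hUP)
  have hR2 : R = ⁅(⊤ : Subgroup Pb), R⁆ := by
    apply Subgroup.map_injective Pb.subtype_injective
    rw [Subgroup.map_commutator, hRmap, ← MonoidHom.range_eq_map, Subgroup.range_subtype]
    exact hUb
  have hall : ∀ k, R ≤ Subgroup.lowerCentralSeries (⊤ : Subgroup Pb) k := by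
    intro k
    induction k with
    | zero => exact le_top
    | succ k ih =>
      rw [hR2, Subgroup.commutator_comm]
      exact Subgroup.commutator_mono ih le_rfl
  obtain ⟨k, hk⟩ := Subgroup.nilpotent_iff_lowerCentralSeries.mp (inferInstance : Group.IsNilpotent Pb)
  have : U.map f = ⊥ := by
    rw [← hRmap, le_bot_iff.mp ((hall k).trans hk.le), Subgroup.map_bot]
  rw [Subgroup.map_eq_bot_iff, hf, QuotientGroup.ker_mk'] at this
  exact hlt.not_ge this

omit [Finite G] in
theorem commutatorElement_mem_sup {b c : G} {A V M : Subgroup G} [V.Normal] (hc : c ∈ A ⊔ V)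
    (hA : ∀ t ∈ A, ⁅b, t⁆ ∈ M) (hVM : V ≤ M) : ⁅b, c⁆ ∈ M := by
  obtain ⟨t, ht, z, hz, rfl⟩ := Subgroup.mem_sup_of_normal_right.mp hc
  rw [show ⁅b, t * z⁆ = ⁅b, t⁆ * (t * ⁅b, z⁆ * t⁻¹) by simp [commutatorElement_def, mul_assoc]]
  refine M.mul_mem (hA t ht) (hVM ?_)
  exact ‹V.Normal›.conj_mem _ (Subgroup.commutator_le_right ⊤ V
    (Subgroup.commutator_mem_commutator (Subgroup.mem_top b) hz)) t

omit [Finite G] in
theorem le_normalizer_iterCommutator {A : Subgroup G} [A.Normal] {b : G}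
    (hb : b ∈ Subgroup.zpowers a) : ∀ n, b ∈ Subgroup.normalizer (itc a A n : Set G)
  | 0 => by rw [show itc a A 0 = A from rfl, Subgroup.normalizer_eq_top]; trivial
  | n + 1 => by
    refine Subgroup.mem_normalizer_iff_map_conj_eq.mpr ?_
    show (⁅itc a A n, Subgroup.zpowers a⁆).map _ = _
    rw [Subgroup.map_commutator,
      Subgroup.mem_normalizer_iff_map_conj_eq.mp (le_normalizer_iterCommutator hb n),
      Subgroup.mem_normalizer_iff_map_conj_eq.mp (Subgroup.le_normalizer hb)]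
    rfl

omit [Finite G] in
/-- The pairing step. -/
theorem itc_le_of_pairing {X U U' Z Z' : Subgroup G} [X.Normal] [U.Normal] [U'.Normal] [Z.Normal]
    [Z'.Normal] (hXU' : ∀ x ∈ X, ∀ u ∈ U', ⁅x, u⁆ = 1) (hXU : ∀ x ∈ X, ∀ u ∈ U, ⁅x, u⁆ ∈ Z)
    (hXZ : ⁅X, Z⁆ ≤ Z') (hUZ : ∀ z ∈ Z, ∀ u ∈ U, u * z = z * u) {i j : ℕ} (hi : 1 ≤ i)
    (hUi : itc a U i ≤ U') (hZj : itc a Z j ≤ Z') :
    ∀ x ∈ itc a X (i + j - 1), ∀ u ∈ U, ⁅x, u⁆ ∈ Z' := by
  let T : ℕ → Subgroup G := fun l => itc a Z l ⊔ Z'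
  have hTmono : ∀ {l l' : ℕ}, l ≤ l' → T l' ≤ T l := fun h =>
    sup_le_sup_right (iterCommutator_antitone h) Z'
  have hTnorm : ∀ {b : G}, b ∈ Subgroup.zpowers a → ∀ l c, c ∈ T l → b * c * b⁻¹ ∈ T l := by
    intro b hb l c hc
    obtain ⟨t, ht, z, hz, rfl⟩ := Subgroup.mem_sup_of_normal_right.mp hc
    rw [show b * (t * z) * b⁻¹ = b * t * b⁻¹ * (b * z * b⁻¹) by group]
    exact Subgroup.mul_mem _ (Subgroup.mem_sup_left
      ((Subgroup.mem_normalizer_iff.mp (le_normalizer_iterCommutator hb l) t).mp ht))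
      (Subgroup.mem_sup_right (‹Z'.Normal›.conj_mem z hz b))
  have hconjx : ∀ x ∈ X, ∀ z ∈ Z, x * z * x⁻¹ * z⁻¹ ∈ Z' := fun x hx z hz =>
    hXZ (Subgroup.commutator_mem_commutator hx hz)
  have hmain : ∀ m, ∀ x ∈ itc a X m, ∀ k, ∀ u ∈ itc a U k, ⁅x, u⁆ ∈ T (m + k + 1 - i) := by
    intro m
    induction m with
    | zero =>
      intro x hx k u hu
      rcases Nat.lt_or_ge k i with hk | hk
      · rw [show 0 + k + 1 - i = 0 by omega]
        exact Subgroup.mem_sup_left (hXU x hx u (iterCommutator_le k hu))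
      · rw [hXU' x hx u (hUi (iterCommutator_antitone hk hu))]
        exact Subgroup.one_mem _
    | succ m ih =>
      let S : Subgroup G :=
        { carrier := {x | x ∈ X ∧ ∀ k, ∀ u ∈ itc a U k, ⁅x, u⁆ ∈ T (m + 1 + k + 1 - i)}
          one_mem' := ⟨X.one_mem, fun k u _ => by rw [commutatorElement_one_left]; exact Subgroup.one_mem _⟩
          mul_mem' := fun {x y} hx hy => ⟨X.mul_mem hx.1 hy.1, fun k u hu => by
            rw [show ⁅x * y, u⁆ = (x * ⁅y, u⁆ * x⁻¹ * ⁅y, u⁆⁻¹) * ⁅y, u⁆ * ⁅x, u⁆ by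
              simp [commutatorElement_def, mul_assoc]]
            exact Subgroup.mul_mem _ (Subgroup.mul_mem _ (Subgroup.mem_sup_right
              (hconjx x hx.1 _ (hXU y hy.1 u (iterCommutator_le k hu)))) (hy.2 k u hu)) (hx.2 k u hu)⟩
          inv_mem' := fun {x} hx => ⟨X.inv_mem hx.1, fun k u hu => by
            rw [show ⁅x⁻¹, u⁆ = (x⁻¹ * ⁅x, u⁆⁻¹ * x⁻¹⁻¹ * ⁅x, u⁆⁻¹⁻¹) * ⁅x, u⁆⁻¹ by
              simp [commutatorElement_def, mul_assoc]]
            exact Subgroup.mul_mem _ (Subgroup.mem_sup_right (hconjx x⁻¹ (X.inv_mem hx.1) _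
              (Z.inv_mem (hXU x hx.1 u (iterCommutator_le k hu))))) (Subgroup.inv_mem _ (hx.2 k u hu))⟩ }
      have hle : ⁅itc a X m, Subgroup.zpowers a⁆ ≤ S := by
        rw [Subgroup.commutator_le]
        intro x hx b hb
        have hxX : x ∈ X := iterCommutator_le m hx
        set y := b * x⁻¹ * b⁻¹ with hy
        have hyX : y ∈ X := ‹X.Normal›.conj_mem _ (X.inv_mem hxX) b
        refine ⟨iterCommutator_le (m + 1) (Subgroup.commutator_mem_commutator hx hb), fun k u hu => ?_⟩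
        have huU : u ∈ U := iterCommutator_le k hu
        set w := ⁅u⁻¹, b⁻¹⁆ with hw
        have hwk : w ∈ itc a U (k + 1) := Subgroup.commutator_mem_commutator
          (Subgroup.inv_mem _ hu) (Subgroup.inv_mem _ hb)
        have hwU : w ∈ U := iterCommutator_le (k + 1) hwk
        have hu' : b⁻¹ * u * b = u * w := by simp [hw, commutatorElement_def, mul_assoc]
        set c₀ := ⁅x, u⁆ with hc₀
        set c₁ := ⁅x, w⁆ with hc₁
        have hc₀Z : c₀ ∈ Z := hXU x hxX u huU
        have hc₁Z : c₁ ∈ Z := hXU x hxX w hwU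
        have hc : ⁅x, b⁻¹ * u * b⁆ = c₀ * c₁ := by
          rw [hu', show ⁅x, u * w⁆ = ⁅x, u⁆ * (u * ⁅x, w⁆ * u⁻¹) by
            simp [commutatorElement_def, mul_assoc], hUZ c₁ hc₁Z u huU, mul_inv_cancel_right]
        set r := x⁻¹ * (c₀ * c₁)⁻¹ * x⁻¹⁻¹ * (c₀ * c₁)⁻¹⁻¹ with hr
        have hrZ : r ∈ Z' := hconjx x⁻¹ (X.inv_mem hxX) _ (Z.inv_mem (Z.mul_mem hc₀Z hc₁Z))
        have hyu : ⁅y, u⁆ = b * (r * (c₁⁻¹ * c₀⁻¹)) * b⁻¹ := by
          rw [hy, hr, ← hc]
          have : c₁⁻¹ * c₀⁻¹ = ⁅x, b⁻¹ * u * b⁆⁻¹ := by rw [hc, mul_inv_rev]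
          rw [this]
          simp [commutatorElement_def, mul_assoc]
        have hgoal : ⁅⁅x, b⁆, u⁆ = (x * ⁅y, u⁆ * x⁻¹ * ⁅y, u⁆⁻¹) *
            ((b * r * b⁻¹) * (b * c₁⁻¹ * b⁻¹) * ⁅b, c₀⁻¹⁆) := by
          rw [show ⁅x, b⁆ = x * y by simp [hy, commutatorElement_def, mul_assoc],
            show ⁅x * y, u⁆ = (x * ⁅y, u⁆ * x⁻¹ * ⁅y, u⁆⁻¹) * (⁅y, u⁆ * c₀) by
              simp [hc₀, commutatorElement_def, mul_assoc], hyu]
          simp [commutatorElement_def, mul_assoc]
        rw [hgoal]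
        refine Subgroup.mul_mem _ (Subgroup.mem_sup_right (hconjx x hxX _ (hXU y hyX u huU))) ?_
        refine Subgroup.mul_mem _ (Subgroup.mul_mem _
          (Subgroup.mem_sup_right (‹Z'.Normal›.conj_mem r hrZ b)) ?_) ?_
        · refine hTnorm hb _ _ (Subgroup.inv_mem _ (hTmono ?_ (ih x hx (k + 1) w hwk)))
          omega
        · have h1 : c₀⁻¹ ∈ T (m + k + 1 - i) := Subgroup.inv_mem _ (ih x hx k u hu)
          refine hTmono (show m + 1 + k + 1 - i ≤ (m + k + 1 - i) + 1 by omega) ?_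
          refine commutatorElement_mem_sup h1 (fun t ht => Subgroup.mem_sup_left ?_) le_sup_right
          rw [← commutatorElement_inv]
          exact Subgroup.inv_mem _ (Subgroup.commutator_mem_commutator ht hb)
      exact fun x hx => (hle hx).2
  intro x hx u hu
  have h := hmain (i + j - 1) x hx 0 u hu
  rw [show i + j - 1 + 0 + 1 - i = j by omega] at h
  exact sup_le hZj le_rfl h

/-- Degree bound on a normal `p`-group from a subgroup controlling it by commutators. -/
theorem degBetween_of_centralizer {P Q Z : Subgroup G} [P.Normal] [Q.Normal] (hP : IsPGroup p P)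
    (hQP : Q ≤ P) (hZdef : Z = Q ⊓ Subgroup.centralizer (Q : Set G)) (hPQ : ⁅P, Q⁆ ≤ Z)
    (hPC : P ⊓ Subgroup.centralizer (Q : Set G) = Z) {i j : ℕ} (hi : 1 ≤ i)
    (hQi : ∀ U V : Subgroup G, Cfsg.IsChiefFactor U V → U ≤ Q → itc a U i ≤ V)
    (hZj : ∀ U V : Subgroup G, Cfsg.IsChiefFactor U V → U ≤ Z → itc a U j ≤ V) :
    DegBetween a (i + j - 1) ⊥ P := by
  haveI hZn : Z.Normal := by rw [hZdef]; infer_instance
  have hZQ : Z ≤ Q := hZdef.le.trans inf_le_left
  have hUZ : ∀ z ∈ Z, ∀ u ∈ Q, u * z = z * u := fun z hz u hu =>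
    (hZdef.le hz).2 u hu
  -- the chain inside `Z`
  have hbotZ : ∀ (k : ℕ) (W : Subgroup G), W.Normal → W ≤ Z → Nat.card W ≤ k →
      DegBetween a (i + j - 1) ⊥ W := by
    intro k
    induction k with
    | zero => exact fun W _ _ hk => absurd hk (Nat.not_le.mpr Nat.card_pos)
    | succ k ih =>
      intro W hW hWZ hk
      rcases eq_or_ne W ⊥ with rfl | hW1
      · exact .refl
      obtain ⟨W', hc, hlt⟩ := exists_chief_below hW hW1
      haveI := hW
      haveI := hc.2.2.1
      exact (ih W' hc.2.2.1 (hc.1.le.trans hWZ) (by omega)).trans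
        (.of_itc_le ((iterCommutator_antitone (by omega)).trans (hZj W W' hc hWZ)))
  -- the chain from `C_P(Q)` to `P`
  have hup : ∀ (k : ℕ) (U : Subgroup G), U.Normal → U ≤ Q → Nat.card U ≤ k →
      DegBetween a (i + j - 1) (P ⊓ Subgroup.centralizer (U : Set G)) P := by
    intro k
    induction k with
    | zero => exact fun U _ _ hk => absurd hk (Nat.not_le.mpr Nat.card_pos)
    | succ k ih =>
      intro U hU hUQ hk
      rcases eq_or_ne U ⊥ with rfl | hU1
      · rw [inf_eq_left.mpr fun x _ u hu => by rw [Subgroup.mem_bot.mp hu, one_mul, mul_one]]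
        exact .refl
      obtain ⟨U', hc, hlt⟩ := exists_chief_below hU hU1
      haveI := hU
      haveI := hc.2.2.1
      refine DegBetween.trans ?_ (ih U' hc.2.2.1 (hc.1.le.trans hUQ) (by omega))
      -- layers by the values in `Z`
      have hlayer : ∀ (l : ℕ) (W : Subgroup G), W.Normal → W ≤ Z → Nat.card W ≤ l →
          ∀ K : Subgroup G, K.Normal → K ≤ P ⊓ Subgroup.centralizer (U' : Set G) → ⁅K, U⁆ ≤ W →
            DegBetween a (i + j - 1) (P ⊓ Subgroup.centralizer (U : Set G)) K := by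
        intro l
        induction l with
        | zero => exact fun W _ _ hk => absurd hk (Nat.not_le.mpr Nat.card_pos)
        | succ l ihl =>
          intro W hW hWZ hl K hK hKP hKU
          haveI := hK
          rcases eq_or_ne W ⊥ with rfl | hW1
          · haveI : (P ⊓ Subgroup.centralizer (U : Set G)).Normal := inferInstance
            refine .of_itc_le ((iterCommutator_le _).trans (le_inf (hKP.trans inf_le_left) ?_))
            exact Subgroup.commutator_eq_bot_iff_le_centralizer.mp (le_bot_iff.mp hKU)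
          obtain ⟨W', hcW, hltW⟩ := exists_chief_below hW hW1
          haveI := hW
          haveI := hcW.2.2.1
          let K' : Subgroup G :=
            { carrier := {x | x ∈ K ∧ ∀ u ∈ U, ⁅x, u⁆ ∈ W'}
              one_mem' := ⟨K.one_mem, fun u _ => by rw [commutatorElement_one_left]; exact W'.one_mem⟩
              mul_mem' := fun {x y} hx hy => ⟨K.mul_mem hx.1 hy.1, fun u hu => by
                rw [show ⁅x * y, u⁆ = x * ⁅y, u⁆ * x⁻¹ * ⁅x, u⁆ by simp [commutatorElement_def, mul_assoc]]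
                exact W'.mul_mem (hcW.2.2.1.conj_mem _ (hy.2 u hu) x) (hx.2 u hu)⟩
              inv_mem' := fun {x} hx => ⟨K.inv_mem hx.1, fun u hu => by
                rw [show ⁅x⁻¹, u⁆ = x⁻¹ * ⁅x, u⁆⁻¹ * x⁻¹⁻¹ by simp [commutatorElement_def, mul_assoc]]
                exact hcW.2.2.1.conj_mem _ (W'.inv_mem (hx.2 u hu)) _⟩ }
          haveI hK' : K'.Normal := ⟨fun x hx g => ⟨hK.conj_mem x hx.1 g, fun u hu => by
            rw [show ⁅g * x * g⁻¹, u⁆ = g * ⁅x, g⁻¹ * u * g⁆ * g⁻¹ by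
              simp [commutatorElement_def, mul_assoc]]
            refine hcW.2.2.1.conj_mem _ (hx.2 _ ?_) g
            simpa using hU.conj_mem u hu g⁻¹⟩⟩
          have hle : itc a K (i + j - 1) ≤ K' := fun x hx => ⟨iterCommutator_le _ hx,
            itc_le_of_pairing (Z := W)
              (fun y hy u hu => commutatorElement_eq_one_iff_mul_comm.mpr ((hKP hy).2 u hu).symm)
              (fun y hy u hu => hKU (Subgroup.commutator_mem_commutator hy hu))
              ((Subgroup.commutator_mono (hKP.trans inf_le_left) le_rfl).trans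
                (commutator_chief_le hP (hWZ.trans (hZQ.trans hQP)) hcW))
              (fun z hz u hu => hUZ z (hWZ hz) u (hUQ hu)) hi (hQi U U' hc hUQ) (hZj W W' hcW hWZ)
              x hx⟩
          refine DegBetween.trans (ihl W' hcW.2.2.1 (hcW.1.le.trans hWZ) (by omega) K' hK'
            (fun x hx => hKP hx.1) ?_) (.of_itc_le hle)
          rw [Subgroup.commutator_le]
          exact fun x hx u hu => hx.2 u hu
      exact hlayer _ Z hZn le_rfl le_rfl _ inferInstance le_rfl
        ((Subgroup.commutator_mono inf_le_left hUQ).trans hPQ)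
  refine (hbotZ _ Z hZn le_rfl le_rfl).trans ?_
  rw [← hPC]
  exact hup _ Q inferInstance le_rfl le_rfl

end CfsgLib.PStable
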