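import Mathlib
import Cfsg.Agent.Lib.Transfer.Basic
import Cfsg.Agent.Lib.Coprime.Action

/-!
Complements for invariant subgroups of an abelian subgroup, passed down to normal and to subnormal
subgroups.
-/

set_option autoImplicit false
set_option linter.style.haveILetI false
set_option linter.unusedSectionVars false

namespace CfsgLib.PStable

variable {G : Type*} [Group G]

/-- Every `K`-invariant subgroup of `U` has a `K`-invariant complement in `U`. -/
def ComplIn (K U : Subgroup G) : Prop :=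
  ∀ W : Subgroup G, W ≤ U → K ≤ Subgroup.normalizer (W : Set G) →
    ∃ W' : Subgroup G, W' ≤ U ∧ K ≤ Subgroup.normalizer (W' : Set G) ∧ W ⊔ W' = U ∧ W ⊓ W' = ⊥

theorem complIn_of_minimal {K U : Subgroup G}
    (hK : K ≤ Subgroup.normalizer (U : Set G))
    (hmin : ∀ W : Subgroup G, W ≤ U → K ≤ Subgroup.normalizer (W : Set G) → W = ⊥ ∨ W = U) :
    ComplIn K U := fun W hW hKW => by
  rcases hmin W hW hKW with rfl | rfl
  · exact ⟨U, le_rfl, hK, bot_sup_eq U, bot_inf_eq U⟩
  · exact ⟨⊥, bot_le, fun k _ => Subgroup.mem_normalizer_iff.mpr fun x => by simp, sup_bot_eq W,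
      inf_bot_eq W⟩

theorem exists_mul_of_mem_sup {A B : Subgroup G} (h : A ≤ Subgroup.normalizer (B : Set G)) {x : G}
    (hx : x ∈ A ⊔ B) : ∃ a ∈ A, ∃ b ∈ B, x = a * b := by
  rw [← SetLike.mem_coe, Subgroup.coe_mul_of_left_le_normalizer_right A B h] at hx
  obtain ⟨a, ha, b, hb, rfl⟩ := hx
  exact ⟨a, ha, b, hb, rfl⟩

variable [Finite G]

theorem ComplIn.of_normal {K N U : Subgroup G} (h : ComplIn K U)
    (hab : ∀ a ∈ U, ∀ b ∈ U, a * b = b * a) (hNK : N ≤ K)
    (hKN : K ≤ Subgroup.normalizer (N : Set G)) (hKU : K ≤ Subgroup.normalizer (U : Set G)) :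
    ComplIn N U := by
  haveI : Finite (Subgroup G) := Finite.of_injective (fun H => (H : Set G)) SetLike.coe_injective
  let Simp : Set (Subgroup G) := {M | M ≤ U ∧ M ≠ ⊥ ∧ N ≤ Subgroup.normalizer (M : Set G) ∧
    ∀ M' : Subgroup G, M' ≤ M → N ≤ Subgroup.normalizer (M' : Set G) → M' = ⊥ ∨ M' = M}
  have hexists : ∀ C : Subgroup G, C ≤ U → N ≤ Subgroup.normalizer (C : Set G) → C ≠ ⊥ →
      ∃ M ∈ Simp, M ≤ C := by
    intro C hC hNC hC1
    obtain ⟨M, hM, hmin⟩ := (Set.toFinite {M : Subgroup G | M ≤ C ∧ M ≠ ⊥ ∧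
      N ≤ Subgroup.normalizer (M : Set G)}).exists_minimal ⟨C, le_rfl, hC1, hNC⟩
    refine ⟨M, ⟨hM.1.trans hC, hM.2.1, hM.2.2, fun M' h1 h2 => ?_⟩, hM.1⟩
    rcases eq_or_ne M' ⊥ with e | e
    · exact Or.inl e
    · exact Or.inr (le_antisymm h1 (hmin ⟨h1.trans hM.1, e, h2⟩ h1))
  set soc : Subgroup G := sSup Simp with hsoc
  have hsocU : soc ≤ U := sSup_le fun M hM => hM.1
  have hKsoc : K ≤ Subgroup.normalizer (soc : Set G) := by
    intro k hk
    refine Subgroup.mem_normalizer_iff_map_conj_eq.mpr (Subgroup.eq_of_le_of_card_ge ?_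
      (Subgroup.card_map_of_injective (MulAut.conj k).injective).ge)
    rw [Subgroup.map_le_iff_le_comap]
    refine sSup_le fun M hM => ?_
    rw [← Subgroup.map_le_iff_le_comap]
    refine le_sSup ⟨(Subgroup.map_mono hM.1).trans
        (Subgroup.mem_normalizer_iff_map_conj_eq.mp (hKU hk)).le,
      fun e => hM.2.1 ((Subgroup.map_eq_bot_iff_of_injective _ (MulAut.conj k).injective).mp e), ?_, ?_⟩
    · intro n hn
      have hn' : k⁻¹ * n * k ∈ N := (Subgroup.mem_normalizer_iff''.mp (hKN hk) n).mp hn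
      refine Subgroup.le_normalizer_map (MulAut.conj k).toMonoidHom ⟨k⁻¹ * n * k, hM.2.2.1 hn', ?_⟩
      simp [mul_assoc]
    · intro M' h1 h2
      have hN' : N ≤ Subgroup.normalizer
          ((M'.map (MulAut.conj k⁻¹).toMonoidHom : Subgroup G) : Set G) := fun n hn => by
        refine Subgroup.le_normalizer_map (MulAut.conj k⁻¹).toMonoidHom ⟨k * n * k⁻¹, h2 ?_, ?_⟩
        · exact (Subgroup.mem_normalizer_iff.mp (hKN hk) n).mp hn
        · simp [mul_assoc]
      have hback : ∀ X : Subgroup G,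
          (X.map (MulAut.conj k⁻¹).toMonoidHom).map (MulAut.conj k).toMonoidHom = X := fun X => by
        rw [Subgroup.map_map]
        convert Subgroup.map_id X
        ext x
        simp [mul_assoc]
      rcases hM.2.2.2 _ (show M'.map (MulAut.conj k⁻¹).toMonoidHom ≤ M by
        rintro _ ⟨x, hx, rfl⟩
        obtain ⟨m, hm, rfl⟩ := h1 hx
        simpa [mul_assoc] using hm) hN' with e | e
      · exact Or.inl ((Subgroup.map_eq_bot_iff_of_injective _ (MulAut.conj k⁻¹).injective).mp e)
      · exact Or.inr (by rw [← hback M', e]; rfl)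
  obtain ⟨C, hCU, hKC, hsup, hinf⟩ := h soc hsocU hKsoc
  have hsoc' : soc = U := by
    rcases eq_or_ne C ⊥ with rfl | hC1
    · rwa [sup_bot_eq] at hsup
    · obtain ⟨M, hM, hMC⟩ := hexists C hCU (hNK.trans hKC) hC1
      exact absurd (le_bot_iff.mp ((le_inf (le_sSup hM) hMC).trans hinf.le)) hM.2.1
  intro W hW hNW
  obtain ⟨W', hW', hmax⟩ := (Set.toFinite {W' : Subgroup G | W' ≤ U ∧
    N ≤ Subgroup.normalizer (W' : Set G) ∧ W ⊓ W' = ⊥}).exists_maximal
    ⟨⊥, bot_le, fun n _ => Subgroup.mem_normalizer_iff.mpr fun x => by simp, inf_bot_eq W⟩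
  refine ⟨W', hW'.1, hW'.2.1, ?_, hW'.2.2⟩
  by_contra hne
  have hle : W ⊔ W' ≤ U := sup_le hW hW'.1
  obtain ⟨M, hM, hMle⟩ : ∃ M ∈ Simp, ¬ M ≤ W ⊔ W' := by
    by_contra hall
    push Not at hall
    exact hne (le_antisymm hle (hsoc'.ge.trans (sSup_le hall)))
  have hMinf : M ⊓ (W ⊔ W') = ⊥ := (hM.2.2.2 _ inf_le_left (Coprime.le_normalizer_inf_of_le hM.2.2.1
    (Coprime.le_normalizer_sup_of_le hNW hW'.2.1))).resolve_right fun e => hMle (inf_eq_left.mp e)
  have hnew : W ⊓ (W' ⊔ M) = ⊥ := by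
    rw [eq_bot_iff]
    rintro x ⟨hxW, hx⟩
    obtain ⟨a, ha, b, hb, rfl⟩ := exists_mul_of_mem_sup
      (fun a ha => Subgroup.mem_normalizer_iff.mpr fun m => by
        constructor
        · intro hm
          rw [hab a (hW'.1 ha) m (hM.1 hm), mul_inv_cancel_right]
          exact hm
        · intro hm
          have e : a⁻¹ * (a * m * a⁻¹) * a = m := by group
          rw [← e, mul_assoc, hab _ (hM.1 hm) a (hW'.1 ha), inv_mul_cancel_left]
          exact hm) hx
    have hbW : b ∈ M ⊓ (W ⊔ W') := ⟨hb, by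
      rw [show b = a⁻¹ * (a * b) by group]
      exact Subgroup.mul_mem _ (Subgroup.mem_sup_right (W'.inv_mem ha)) (Subgroup.mem_sup_left hxW)⟩
    rw [hMinf, Subgroup.mem_bot] at hbW
    rw [hbW, mul_one] at hxW ⊢
    exact hW'.2.2.le ⟨hxW, ha⟩
  have hnorm : N ≤ Subgroup.normalizer ((W' ⊔ M : Subgroup G) : Set G) :=
    Coprime.le_normalizer_sup_of_le hW'.2.1 hM.2.2.1
  exact hMle ((le_sup_right.trans (hmax ⟨sup_le hW'.1 hM.1, hnorm, hnew⟩ le_sup_left)).trans le_sup_right)

open CfsgLib.Transfer in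
/-- Down to any subgroup containing all `p'`-elements. -/
theorem ComplIn.of_residual_le {p : ℕ} [Fact p.Prime] {K H U : Subgroup G} (h : ComplIn K U)
    (hab : ∀ a ∈ U, ∀ b ∈ U, a * b = b * a) (hKU : K ≤ Subgroup.normalizer (U : Set G)) (hHK : H ≤ K)
    (hH : (Cfsg.pResidual p K).map K.subtype ≤ H) : ComplIn H U := by
  suffices ∀ (n : ℕ) (H : Subgroup G), H ≤ K → (Cfsg.pResidual p K).map K.subtype ≤ H →
      Nat.card K < Nat.card H + n → ComplIn H U from
    this (Nat.card K + 1) H hHK hH (by omega)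
  intro n
  induction n with
  | zero =>
    intro H hHK _ hlt
    have := Subgroup.card_le_of_le hHK
    omega
  | succ n ih =>
    intro H hHK hH hlt
    rcases eq_or_ne H K with rfl | hne
    · exact h
    haveI := pResidual_normal p K
    set f := QuotientGroup.mk' (Cfsg.pResidual p K) with hf
    have hfs : Function.Surjective f := QuotientGroup.mk'_surjective _
    set Hb := (H.subgroupOf K).map f with hHb
    have hker : f.ker ≤ H.subgroupOf K := by
      rw [hf, QuotientGroup.ker_mk']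
      exact fun x hx => hH (Subgroup.mem_map_of_mem _ hx)
    have hcomap : Hb.comap f = H.subgroupOf K := Subgroup.comap_map_eq_self hker
    have hne' : Hb ≠ ⊤ := fun e => hne (le_antisymm hHK (Subgroup.subgroupOf_eq_top.mp (by
      rw [← hcomap, e, Subgroup.comap_top])))
    haveI := (isPGroup_quotient_pResidual (p := p) (G := K)).isNilpotent
    have hlt' := Group.normalizerCondition_of_isNilpotent Hb (lt_top_iff_ne_top.mpr hne')
    set H' := ((Subgroup.normalizer (Hb : Set _)).comap f).map K.subtype with hH'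
    have hHH' : H < H' := by
      have h1 : Hb.comap f < (Subgroup.normalizer (Hb : Set _)).comap f :=
        (Subgroup.comap_lt_comap_of_surjective hfs).mpr hlt'
      rw [hcomap] at h1
      have := (Subgroup.map_lt_map_iff_of_injective K.subtype_injective).mpr h1
      rwa [Subgroup.map_subgroupOf_eq_of_le hHK] at this
    have hH'K : H' ≤ K := Subgroup.map_subtype_le _
    have hnorm : H' ≤ Subgroup.normalizer (H : Set G) := by
      rw [hH', Subgroup.comap_normalizer_eq_of_surjective _ hfs, hcomap]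
      refine (Subgroup.le_normalizer_map K.subtype).trans ?_
      rw [Subgroup.map_subgroupOf_eq_of_le hHK]
    have hc : Nat.card H < Nat.card H' := lt_of_le_of_ne (Subgroup.card_le_of_le hHH'.le)
      fun e => hHH'.ne (Subgroup.eq_of_le_of_card_ge hHH'.le e.ge)
    exact (ih H' hH'K (hH.trans hHH'.le) (by omega)).of_normal hab hHH'.le hnorm (hH'K.trans hKU)

end CfsgLib.PStable
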