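import Mathlib
import Cfsg.Prelude.Def_PLocal
import Cfsg.Agent.Lib.Offender.Basic
import Cfsg.Agent.Lib.PStable.AbelianResidual
import Cfsg.Agent.Lib.Transfer.Focal

/-!
An element with `(a - 1) ^ (p - 1) = 0` on a faithful module in characteristic `p` centralizes every
abelian `p'`-group it normalizes.
-/

set_option autoImplicit false
set_option linter.style.haveILetI false
set_option linter.unusedSectionVars false

open scoped commutatorElement

namespace CfsgLib.PStable

open CfsgLib.Transfer

variable {p : ℕ} [hp : Fact p.Prime]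

theorem geom_sum_eq_sub_one_pow {R : Type*} [Ring R] [CharP R p] (g : R) :
    (g - 1) ^ (p - 1) = ∑ i ∈ Finset.range p, g ^ i := by
  letI := ZMod.algebra R p
  have h : (Polynomial.X - 1 : Polynomial (ZMod p)) ^ (p - 1) =
      ∑ i ∈ Finset.range p, Polynomial.X ^ i := by
    refine mul_left_cancel₀ (a := (Polynomial.X - 1 : Polynomial (ZMod p)))
      (by simpa using Polynomial.X_sub_C_ne_zero (1 : ZMod p)) ?_
    rw [← pow_succ', Nat.sub_add_cancel hp.out.one_le, sub_pow_char, one_pow, mul_geom_sum]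
  have := congrArg (Polynomial.aeval g) h
  simpa using this

variable {V : Type*} [AddCommGroup V] {X : Type*} [Group X]

/-- Products of `σⁱ r_j - σʲ r_j`. -/
def elimProd (φ : X →* AddMonoid.End V) (a : X) (r : ℕ → X) : ℕ → ℕ → AddMonoid.End V
  | 0, _ => 1
  | k + 1, i => elimProd φ a r k i *
      (φ (a ^ i * r (k + 1) * (a ^ i)⁻¹) - φ (a ^ (k + 1) * r (k + 1) * (a ^ (k + 1))⁻¹))

theorem elimProd_congr (φ : X →* AddMonoid.End V) (a : X) {r r' : ℕ → X} (k i : ℕ)
    (h : ∀ j ≤ k, r j = r' j) : elimProd φ a r k i = elimProd φ a r' k i := by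
  induction k with
  | zero => rfl
  | succ k ih => rw [elimProd, elimProd, ih fun j hj => h j (hj.trans k.le_succ), h (k + 1) le_rfl]

theorem commute_of_engel [Finite X] [Nontrivial V] (hV : ∀ v : V, p • v = 0)
    (φ : X →* AddMonoid.End V) (hφ : Function.Injective φ) {a : X}
    (hq : (φ a - 1) ^ (p - 1) = 0) {Y : Subgroup X} (hYc : ∀ x ∈ Y, ∀ y ∈ Y, x * y = y * x)
    (hY : (Nat.card Y).Coprime p) (ha : a ∈ Subgroup.normalizer (Y : Set X)) :
    ∀ y ∈ Y, a * y = y * a := by
  classical
  haveI := Offender.charP_End hV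
  have hsum : ∑ i ∈ Finset.range p, φ a ^ i = 0 := by rw [← geom_sum_eq_sub_one_pow, hq]
  have hap : a ^ p = 1 := by
    apply hφ
    rw [map_pow, map_one, ← sub_eq_zero]
    conv_lhs => rw [← one_pow p]
    rw [← sub_pow_char_of_commute p (Commute.one_right _)]
    exact pow_eq_zero_of_le (Nat.sub_le p 1) hq
  have hmem : ∀ i : ℕ, ∀ y ∈ Y, a ^ i * y * (a ^ i)⁻¹ ∈ Y := fun i y hy =>
    (Subgroup.mem_normalizer_iff.mp (Subgroup.pow_mem _ ha i) y).mp hy
  have hc : ∀ x ∈ Y, ∀ y ∈ Y, Commute (φ x) (φ y) := fun x hx y hy => by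
    rw [commute_iff_eq, ← map_mul, ← map_mul, hYc x hx y hy]
  have hgs : ∀ (i : ℕ) (y : X), φ a ^ i * φ y = φ (a ^ i * y * (a ^ i)⁻¹) * φ a ^ i := fun i y => by
    rw [← map_pow, ← map_mul, ← map_mul, inv_mul_cancel_right]
  have hcc : ∀ r : ℕ → X, (∀ j, r j ∈ Y) → ∀ k i, ∀ y ∈ Y,
      Commute (φ y) (elimProd φ a r k i) := by
    intro r hr k
    induction k with
    | zero => exact fun i y _ => Commute.one_right _
    | succ k ih =>
      exact fun i y hy => (ih i y hy).mul_right
        ((hc y hy _ (hmem i _ (hr _))).sub_right (hc y hy _ (hmem (k + 1) _ (hr _))))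
  have hE : ∀ r : ℕ → X, (∀ j, r j ∈ Y) → ∀ k,
      ∑ i ∈ Finset.range p, elimProd φ a r k i * φ a ^ i = 0 := by
    intro r hr k
    induction k with
    | zero => simpa [elimProd] using hsum
    | succ k ih =>
      have h : ∑ i ∈ Finset.range p, elimProd φ a r (k + 1) i * φ a ^ i =
          (∑ i ∈ Finset.range p, elimProd φ a r k i * φ a ^ i) * φ (r (k + 1)) -
            φ (a ^ (k + 1) * r (k + 1) * (a ^ (k + 1))⁻¹) *
              ∑ i ∈ Finset.range p, elimProd φ a r k i * φ a ^ i := by
        rw [Finset.sum_mul, Finset.mul_sum, ← Finset.sum_sub_distrib]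
        refine Finset.sum_congr rfl fun i _ => ?_
        rw [elimProd, mul_assoc (elimProd φ a r k i) (φ a ^ i), hgs, ← mul_assoc,
          ← mul_assoc (φ _) (elimProd φ a r k i), (hcc r hr k i _ (hmem (k + 1) _ (hr _))).eq,
          mul_sub, sub_mul]
      rw [h, ih, zero_mul, mul_zero, sub_zero]
  have hvan : ∀ r : ℕ → X, ∀ k i, 1 ≤ i → i ≤ k → elimProd φ a r k i = 0 := by
    intro r k
    induction k with
    | zero => intro i h1 h2; omega
    | succ k ih =>
      intro i h1 h2
      rcases Nat.lt_or_eq_of_le h2 with h | rfl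
      · rw [elimProd, ih i h1 (by omega), zero_mul]
      · rw [elimProd, sub_self, mul_zero]
  intro y hy
  set d := φ y - φ (a * y * a⁻¹) with hd
  have hmain : ∀ m k, k + m = p - 1 → ∀ r : ℕ → X, (∀ j, r j ∈ Y) →
      elimProd φ a r k 0 * d ^ m = 0 := by
    intro m
    induction m with
    | zero =>
      intro k hk r hr
      have h := hE r hr k
      rw [Finset.sum_eq_single 0] at h
      · simpa using h
      · intro i hi hi0
        rw [hvan r k i (by omega) (by have := Finset.mem_range.mp hi; omega), zero_mul]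
      · intro h0
        exact absurd (Finset.mem_range.mpr hp.out.pos) h0
    | succ m ih =>
      intro k hk r hr
      obtain ⟨i, hi⟩ : ∃ i : ℕ, (k + 1) * i ≡ 1 [MOD p] := by
        have hcop : (k + 1).Coprime p := (Nat.Prime.coprime_iff_not_dvd hp.out).mpr
          (fun h => by have := Nat.le_of_dvd k.succ_pos h; omega) |>.symm
        obtain ⟨i, -, hi⟩ := Nat.exists_mul_mod_eq_one_of_coprime hcop hp.out.one_lt
        exact ⟨i, by rw [Nat.ModEq, hi, Nat.mod_eq_of_lt hp.out.one_lt]⟩
      let u : ℕ → X := fun t => a ^ ((k + 1) * t) * y * (a ^ ((k + 1) * t))⁻¹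
      have hu : ∀ t, u t ∈ Y := fun t => hmem _ y hy
      have hui : u i = a * y * a⁻¹ := by
        have e : a ^ ((k + 1) * i) = a := by
          conv_rhs => rw [← pow_one a]
          exact pow_eq_pow_iff_modEq.mpr (hi.of_dvd (orderOf_dvd_of_pow_eq_one hap))
        simp only [u, e]
      have hdsum : d = ∑ t ∈ Finset.range i, (φ (u t) - φ (u (t + 1))) := by
        rw [Finset.sum_range_sub' (fun t => φ (u t)), hui, hd]
        simp [u]
      rw [pow_succ', ← mul_assoc, hdsum, Finset.mul_sum, Finset.sum_mul]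
      refine Finset.sum_eq_zero fun t _ => ?_
      rw [show (∑ t ∈ Finset.range i, (φ (u t) - φ (u (t + 1)))) = d from hdsum.symm]
      have hr' : ∀ j, Function.update r (k + 1) (u t) j ∈ Y := fun j => by
        rcases eq_or_ne j (k + 1) with rfl | h
        · rw [Function.update_self]; exact hu t
        · rw [Function.update_of_ne h]; exact hr j
      have h := ih (k + 1) (by omega) _ hr'
      rw [elimProd, Function.update_self, elimProd_congr φ a (r' := r) k 0
        (fun j hj => Function.update_of_ne (by omega) _ _)] at h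
      rw [pow_zero, one_mul, inv_one, mul_one] at h
      rw [show u (t + 1) = a ^ (k + 1) * u t * (a ^ (k + 1))⁻¹ by
        simp only [u, mul_add, mul_one, add_comm ((k + 1) * t), pow_add, mul_inv_rev, mul_assoc]]
      exact h
  have hd0 : d ^ (p - 1) = 0 := by
    simpa [elimProd] using hmain (p - 1) 0 (zero_add _) (fun _ => 1) fun _ => Y.one_mem
  obtain ⟨m, hm0, hm⟩ : ∃ m, 0 < m ∧ p ^ m ≡ 1 [MOD Nat.card Y] :=
    ⟨_, Nat.totient_pos.mpr Nat.card_pos, Nat.ModEq.pow_totient hY.symm⟩
  have hpow : ∀ z ∈ Y, φ z ^ (p ^ m) = φ z := fun z hz => by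
    rw [← map_pow]
    congr 1
    have h1 : p ^ m ≡ 1 [MOD orderOf (⟨z, hz⟩ : Y)] := Nat.ModEq.of_dvd (orderOf_dvd_natCard _) hm
    have h2 := pow_eq_pow_iff_modEq.mpr h1
    rw [pow_one] at h2
    exact congrArg Subtype.val h2
  have hy1 : a * y * a⁻¹ ∈ Y := (Subgroup.mem_normalizer_iff.mp ha y).mp hy
  have h0 : d = 0 := by
    have h : d ^ (p ^ m) = d := by
      rw [hd, sub_pow_char_pow_of_commute p m (hc y hy _ hy1), hpow y hy, hpow _ hy1]
    rw [← h]
    exact pow_eq_zero_of_le ((Nat.sub_le p 1).trans (Nat.le_self_pow hm0.ne' p)) hd0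
  exact mul_inv_eq_iff_eq_mul.mp (hφ (sub_eq_zero.mp h0).symm)

omit [Group X] in
/-- On a minimal normal `p`-subgroup `V`, `O^p` of `G / C(V)` is an abelian `p'`-group. -/
theorem residual_quotient_centralizer {G : Type*} [Group G] [Finite G] (hG : AbelianResidual p G)
    {V : Subgroup G} [V.Normal] (hVp : IsPGroup p V)
    (hmin : ∀ N : Subgroup G, N.Normal → N ≤ V → N = ⊥ ∨ N = V) :
    (∀ x ∈ Cfsg.pResidual p (G ⧸ Subgroup.centralizer (V : Set G)),
      ∀ y ∈ Cfsg.pResidual p (G ⧸ Subgroup.centralizer (V : Set G)), x * y = y * x) ∧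
    (Nat.card (Cfsg.pResidual p (G ⧸ Subgroup.centralizer (V : Set G)))).Coprime p ∧
    ∀ N : Subgroup (G ⧸ Subgroup.centralizer (V : Set G)), N.Normal → IsPGroup p N → N = ⊥ := by
  set C := Subgroup.centralizer (V : Set G) with hC
  set π := QuotientGroup.mk' C with hπ
  have hπs : Function.Surjective π := QuotientGroup.mk'_surjective C
  haveI := pResidual_normal p (G ⧸ C)
  set R := Cfsg.pResidual p (G ⧸ C) with hR
  have hcore : ∀ N : Subgroup (G ⧸ C), N.Normal → IsPGroup p N → N = ⊥ := by
    intro N hN hNp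
    haveI := hN
    have hle : N.comap π ≤ C := le_centralizer_of_minimal hVp hmin (N.comap π) fun d hd => by
      obtain ⟨i, hi⟩ := hNp ⟨π d, hd⟩
      refine ⟨i, (QuotientGroup.eq_one_iff _).mp ?_⟩
      show π (d ^ p ^ i) = 1
      rw [map_pow]
      simpa using congrArg Subtype.val hi
    rw [eq_bot_iff]
    intro x hx
    obtain ⟨g, rfl⟩ := hπs x
    exact Subgroup.mem_bot.mpr ((QuotientGroup.eq_one_iff g).mpr (hle hx))
  have hRc : ∀ x ∈ R, ∀ y ∈ R, x * y = y * x := by
    intro x hx y hy
    rw [← commutatorElement_eq_one_iff_mul_comm]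
    have := Subgroup.commutator_mem_commutator hx hy
    rwa [hcore ⁅R, R⁆ inferInstance (hG.of_surjective π hπs), Subgroup.mem_bot] at this
  exact ⟨hRc, coprime_card_closure (fun x hx => hx) hRc, hcore⟩

omit [Group X] in
/-- A `p`-element centralizing an abelian `O^p(G)` is trivial when `O_p(G) = 1`. -/
theorem eq_one_of_centralizes_residual {G : Type*} [Group G] [Finite G]
    (hcore : ∀ N : Subgroup G, N.Normal → IsPGroup p N → N = ⊥)
    (hRc : ∀ x ∈ Cfsg.pResidual p G, ∀ y ∈ Cfsg.pResidual p G, x * y = y * x) {x : G}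
    (hx : x ∈ Subgroup.centralizer (Cfsg.pResidual p G : Set G)) {i : ℕ} (hi : x ^ p ^ i = 1) :
    x = 1 := by
  haveI := pResidual_normal p G
  set R := Cfsg.pResidual p G with hR
  set C := Subgroup.centralizer (R : Set G) with hC
  have hle : R.subgroupOf C ≤ Subgroup.center C := fun x hx => Subgroup.mem_center_iff.mpr
    fun y => Subtype.ext ((y.2 _ hx).symm)
  haveI : Group.IsNilpotent (C ⧸ R.subgroupOf C) := by
    refine IsPGroup.isNilpotent (p := p) ?_
    refine (isPGroup_quotient_pResidual (p := p) (G := G)).of_injective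
      (QuotientGroup.map (R.subgroupOf C) R C.subtype (le_of_eq rfl)) ?_
    rw [← MonoidHom.ker_eq_bot_iff]
    exact (QuotientGroup.ker_map _ _ _ _).trans (QuotientGroup.map_mk'_self _)
  haveI : Group.IsNilpotent C := Subgroup.isNilpotent_of_ker_le_center
    (QuotientGroup.mk' (R.subgroupOf C)) (by rw [QuotientGroup.ker_mk']; exact hle)
  obtain ⟨T⟩ := (inferInstance : Nonempty (Sylow p C))
  haveI hTn : (T : Subgroup C).Normal :=
    T.normal_of_normalizerCondition Group.normalizerCondition_of_isNilpotent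
  haveI := Sylow.characteristic_of_normal T hTn
  have hTbot : (T : Subgroup C) = ⊥ :=
    (Subgroup.map_eq_bot_iff_of_injective _ C.subtype_injective).mp
      (hcore _ (ConjAct.normal_of_characteristic_of_normal (K := (T : Subgroup C))) (T.2.map _))
  have hno : ¬ p ∣ Nat.card C := fun hd => T.ne_bot_of_dvd_card hd hTbot
  have h2 : (orderOf x).Coprime p :=
    (hp.out.coprime_iff_not_dvd.mpr fun hd => hno (hd.trans (C.orderOf_dvd_natCard hx))).symm
  exact orderOf_eq_one_iff.mp
    (Nat.eq_one_of_dvd_coprimes (h2.pow_right i) dvd_rfl (orderOf_dvd_of_pow_eq_one hi))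

omit [Group X] in
/-- An element with iterated commutators of length `p - 1` in `V` centralizes a chief factor. -/
theorem commutator_le_of_engel {G : Type*} [Group G] [Finite G] (hG : AbelianResidual p G)
    {V : Subgroup G} [V.Normal] (hVp : IsPGroup p V)
    (hmin : ∀ N : Subgroup G, N.Normal → N ≤ V → N = ⊥ ∨ N = V) {g : G}
    (hg : ∃ i, g ^ p ^ i = 1)
    (hq : Cfsg.iterCommutator V (Subgroup.zpowers g) (p - 1) = ⊥) :
    g ∈ Subgroup.centralizer (V : Set G) := by
  rcases eq_or_ne V ⊥ with hbot | hV1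
  · rw [hbot]
    exact fun y hy => by rw [Subgroup.mem_bot.mp hy, one_mul, mul_one]
  have hVc : ∀ a ∈ V, ∀ b ∈ V, a * b = b * a := by
    rcases hmin ⁅V, V⁆ inferInstance (Subgroup.commutator_le_self V) with h | h
    · exact fun a ha b hb => (Subgroup.commutator_eq_bot_iff_le_centralizer.mp h hb a ha)
    · haveI := hVp.isNilpotent
      exact absurd (eq_bot_of_le_commutator_self h.ge) hV1
  let W : Subgroup G :=
    { carrier := {x | x ∈ V ∧ x ^ p = 1}
      mul_mem' := fun {x y} hx hy => ⟨mul_mem hx.1 hy.1, by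
        rw [(show Commute x y from hVc x hx.1 y hy.1).mul_pow, hx.2, hy.2, one_mul]⟩
      one_mem' := ⟨one_mem _, one_pow _⟩
      inv_mem' := fun {x} hx => ⟨inv_mem hx.1, by rw [inv_pow, hx.2, inv_one]⟩ }
  have hWn : W.Normal := ⟨fun x hx g =>
    ⟨Subgroup.Normal.conj_mem inferInstance x hx.1 g,
      by rw [conj_pow, hx.2, mul_one, mul_inv_cancel]⟩⟩
  have hW : W = V := by
    refine (hmin W hWn fun x hx => hx.1).resolve_left fun h => ?_
    haveI : Nontrivial V := (Subgroup.nontrivial_iff_ne_bot V).mpr hV1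
    obtain ⟨k, hk0, hk⟩ := hVp.nontrivial_iff_card.mp inferInstance
    obtain ⟨z, hz⟩ := exists_prime_orderOf_dvd_card' (G := V) p (hk ▸ dvd_pow_self p hk0.ne')
    have hz1 : (z : G) ∈ W := ⟨z.2, by
      have h1 := pow_orderOf_eq_one z
      rw [hz] at h1
      simpa using congrArg Subtype.val h1⟩
    rw [h, Subgroup.mem_bot] at hz1
    refine hp.out.ne_one ?_
    rw [← hz, orderOf_eq_one_iff]
    exact Subtype.ext hz1
  have hVe : ∀ v ∈ V, v ^ p = 1 := fun v hv => (hW.ge hv).2
  set C := Subgroup.centralizer (V : Set G) with hC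
  obtain ⟨hRc, hRp, hcore⟩ := residual_quotient_centralizer hG hVp hmin
  set π := QuotientGroup.mk' C with hπ
  haveI : IsMulCommutative V := ⟨⟨fun x y => Subtype.ext (hVc x x.2 y y.2)⟩⟩
  letI : CommGroup V := { (inferInstance : Group V) with mul_comm := mul_comm' }
  have hexp : ∀ v : Additive V, p • v = 0 := fun v =>
    Subtype.ext (hVe _ (Additive.toMul v : V).2)
  haveI : Nontrivial (Additive V) := by
    haveI := (Subgroup.nontrivial_iff_ne_bot V).mpr hV1
    infer_instance
  let φ₀ : G →* AddMonoid.End (Additive V) :=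
    { toFun := fun g => MonoidHom.toAdditive ((MulAut.conjNormal g : MulAut V).toMonoidHom)
      map_one' := by rw [map_one]; rfl
      map_mul' := fun g h => by rw [map_mul]; rfl }
  have hφ₀ : ∀ (g : G) (v : Additive V),
      ((Additive.toMul (φ₀ g v) : V) : G) = g * (Additive.toMul v : V) * g⁻¹ :=
    fun g v => MulAut.conjNormal_apply g _
  have hker : C ≤ φ₀.ker := fun c hc => by
    refine DFunLike.ext _ _ fun v => Additive.toMul.injective (Subtype.ext ?_)
    rw [hφ₀, ← hc _ (Additive.toMul v : V).2, mul_inv_cancel_right]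
    rfl
  let φ : G ⧸ C →* AddMonoid.End (Additive V) := QuotientGroup.lift C φ₀ hker
  have hφπ : ∀ g, φ (π g) = φ₀ g := fun g => rfl
  have hφinj : Function.Injective φ := by
    rw [← MonoidHom.ker_eq_bot_iff, eq_bot_iff]
    intro x hx
    obtain ⟨g, rfl⟩ := QuotientGroup.mk'_surjective C x
    rw [Subgroup.mem_bot, QuotientGroup.mk'_apply, QuotientGroup.eq_one_iff]
    intro v hv
    have h1 := hφ₀ g (Additive.ofMul (⟨v, hv⟩ : V))
    rw [show φ₀ g = 1 from hx] at h1
    exact eq_mul_inv_iff_mul_eq.mp h1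
  have hiter : ∀ (n : ℕ) (v : Additive V), ((Additive.toMul (((φ (π g) - 1) ^ n) v) : V) : G) ∈
      Cfsg.iterCommutator V (Subgroup.zpowers g) n := by
    intro n
    induction n with
    | zero => exact fun v => (Additive.toMul v : V).2
    | succ n ih =>
      intro v
      rw [pow_succ']
      show ((Additive.toMul ((φ (π g) - 1) (((φ (π g) - 1) ^ n) v)) : V) : G) ∈ _
      set w := ((φ (π g) - 1) ^ n) v
      have h2 : ((Additive.toMul ((φ (π g) - 1) w) : V) : G) = ⁅g, (((Additive.toMul w) : V) : G)⁆ := by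
        show ((Additive.toMul (φ (π g) w - w) : V) : G) = _
        rw [toMul_sub, hφπ, Subgroup.coe_div, div_eq_mul_inv, hφ₀]
        rfl
      rw [h2, ← commutatorElement_inv]
      exact Subgroup.inv_mem _
        (Subgroup.commutator_mem_commutator (ih v) (Subgroup.mem_zpowers g))
  have hzero : (φ (π g) - 1) ^ (p - 1) = 0 := by
    refine DFunLike.ext _ _ fun v => Additive.toMul.injective (Subtype.ext ?_)
    have := hiter (p - 1) v
    rw [hq, Subgroup.mem_bot] at this
    exact this
  haveI := pResidual_normal p (G ⧸ C)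
  have hcomm := commute_of_engel hexp φ hφinj hzero hRc hRp
    (by rw [Subgroup.normalizer_eq_top]; trivial)
  obtain ⟨i, hi⟩ := hg
  rw [← QuotientGroup.eq_one_iff]
  exact eq_one_of_centralizes_residual hcore hRc (x := π g) (fun y hy => (hcomm y hy).symm)
    (i := i) (by rw [← map_pow, hi, map_one])

end CfsgLib.PStable
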